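import Cfsg.Agent.Lib.Components.Layer
import Cfsg.Agent.Lib.Core.Basic

/-!
# The Thompson–Wielandt theorem: generic tools

Throughout, `M₁ M₂` are distinct conjugate maximal core-free subgroups of a finite group.
We work with subgroups of the ambient group.
-/

set_option autoImplicit false

namespace Cfsg.Agent.Lib.TW.Basic

open Cfsg Subgroup Cfsg.Agent.Lib.Core.Basic Cfsg.Agent.Lib.Components.Basic
open scoped commutatorElement

universe u

variable {G : Type u} [Group G]

/-! ### Forward normalisation -/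

theorem mem_normalizer_of_forward [Finite G] {X : Subgroup G} {y : G}
    (h : ∀ x ∈ X, y * x * y⁻¹ ∈ X) : y ∈ normalizer (X : Set G) :=
  mem_normalizer_fintype (S := (X : Set G)) h

theorem conj_mem_of_normalizer {X : Subgroup G} {y : G} (hy : y ∈ normalizer (X : Set G))
    {x : G} (hx : x ∈ X) : y * x * y⁻¹ ∈ X :=
  (mem_normalizer_iff.mp hy x).mp hx

theorem conj_inv_mem_of_normalizer {X : Subgroup G} {y : G} (hy : y ∈ normalizer (X : Set G))
    {x : G} (hx : x ∈ X) : y⁻¹ * x * y ∈ X := by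
  have := conj_mem_of_normalizer (inv_mem hy) hx
  simpa using this

/-- Conjugates of generators suffice. -/
theorem forward_closure {S : Set G} {X : Subgroup G} {y : G} (h : ∀ s ∈ S, y * s * y⁻¹ ∈ X)
    {x : G} (hx : x ∈ closure S) : y * x * y⁻¹ ∈ X := by
  have : closure S ≤ X.comap (MulAut.conj y).toMonoidHom := by
    rw [closure_le]
    intro s hs
    simpa [MulAut.conj_apply] using h s hs
  simpa [MulAut.conj_apply] using this hx

theorem normalizer_inf_le {X Y : Subgroup G} :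
    normalizer (X : Set G) ⊓ normalizer (Y : Set G) ≤ normalizer ((X ⊓ Y : Subgroup G) : Set G) := by
  intro g hg
  rw [mem_normalizer_iff]
  intro z
  have h1 := mem_normalizer_iff.mp hg.1 z
  have h2 := mem_normalizer_iff.mp hg.2 z
  constructor
  · rintro ⟨a, b⟩
    exact ⟨h1.mp a, h2.mp b⟩
  · rintro ⟨a, b⟩
    exact ⟨h1.mpr a, h2.mpr b⟩

theorem le_normalizer_inf {K X Y : Subgroup G} (h1 : K ≤ normalizer (X : Set G))
    (h2 : K ≤ normalizer (Y : Set G)) : K ≤ normalizer ((X ⊓ Y : Subgroup G) : Set G) :=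
  (le_inf h1 h2).trans normalizer_inf_le

/-! ### Maximal core-free subgroups -/

/-- A nontrivial subgroup of `M` normalised by `M` has normaliser `M`. -/
theorem mem_of_normalizes {M : Subgroup G} (hmax : IsCoatom M)
    (hcore : ∀ X : Subgroup G, X ≤ M → X.Normal → X = ⊥) {X : Subgroup G} (hne : X ≠ ⊥)
    (hle : X ≤ M) (hn : M ≤ normalizer (X : Set G)) {y : G}
    (hy : y ∈ normalizer (X : Set G)) : y ∈ M := by
  by_contra hyM
  have hlt : M < normalizer (X : Set G) := lt_of_le_of_ne hn (fun h => hyM (h ▸ hy))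
  have htop := hmax.2 _ hlt
  exact hne (hcore X hle (normalizer_eq_top_iff.mp htop))

/-- Two distinct maximal subgroups generate the group. -/
theorem normal_of_both {M₁ M₂ : Subgroup G} (h₁ : IsCoatom M₁) (hne : M₁ ≠ M₂)
    {X : Subgroup G} (hn₁ : M₁ ≤ normalizer (X : Set G)) (hn₂ : M₂ ≤ normalizer (X : Set G))
    (h₂ : IsCoatom M₂) : X.Normal := by
  rw [← normalizer_eq_top_iff]
  have : M₁ ⊔ M₂ = ⊤ := by
    have h : M₁ < M₁ ⊔ M₂ := by
      refine lt_of_le_of_ne le_sup_left ?_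
      intro h
      have h3 : M₂ ≤ M₁ := by rw [h]; exact le_sup_right
      rcases eq_or_lt_of_le h3 with h4 | h4
      · exact hne h4.symm
      · exact h₂.1 (by
          have := h₂.2 _ h4
          exact absurd this h₁.1)
    exact h₁.2 _ h
  rw [eq_top_iff, ← this]
  exact sup_le hn₁ hn₂

/-! ### Elements of order prime to `p` -/

/-- If `Q` is a `p`-group normalising `X`, an element of `QX` of order prime to `p` lies in `X`. -/
theorem pprime_mem {p : ℕ} [Finite G] (hp : p.Prime) {Q X : Subgroup G} (hQ : IsPGroup p Q)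
    (hn : Q ≤ normalizer (X : Set G)) {x q w : G} (hx : x ∈ X) (hq : q ∈ Q) (hw : w = q * x)
    (hc : (orderOf w).Coprime p) : w ∈ X := by
  have key : ∀ n : ℕ, ∃ y ∈ X, w ^ n = q ^ n * y := by
    intro n
    induction n with
    | zero => exact ⟨1, one_mem _, by simp⟩
    | succ n ih =>
      obtain ⟨y, hy, hwn⟩ := ih
      refine ⟨q⁻¹ * y * q * x, mul_mem (conj_inv_mem_of_normalizer (hn hq) hy) hx, ?_⟩
      rw [pow_succ, hwn, hw, pow_succ]
      group
  obtain ⟨k, hk⟩ := hQ ⟨q, hq⟩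
  have hqk : q ^ p ^ k = 1 := by
    have := congrArg Subtype.val hk
    simpa using this
  obtain ⟨y, hy, hwy⟩ := key (p ^ k)
  rw [hqk, one_mul] at hwy
  have hc' : (p ^ k).Coprime (orderOf w) := (Nat.Coprime.pow_left k hc.symm)
  obtain ⟨m, hm⟩ := exists_pow_eq_self_of_coprime hc'
  rw [← hm, hwy]
  exact pow_mem hy m

/-- The subgroup generated by the elements of order prime to `p`. -/
def Npp (p : ℕ) (X : Subgroup G) : Subgroup G :=
  closure {x | x ∈ X ∧ (orderOf x).Coprime p}

theorem Npp_le (p : ℕ) (X : Subgroup G) : Npp p X ≤ X := by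
  rw [Npp, closure_le]
  exact fun x hx => hx.1

theorem mem_Npp {p : ℕ} {X : Subgroup G} {x : G} (hx : x ∈ X) (hc : (orderOf x).Coprime p) :
    x ∈ Npp p X :=
  subset_closure ⟨hx, hc⟩

theorem orderOf_conj' (z x : G) : orderOf (z * x * z⁻¹) = orderOf x := by
  simpa [MulAut.conj_apply] using MulEquiv.orderOf_eq (MulAut.conj z) x

/-- `O^p` is normalised by whatever normalises the subgroup. -/
theorem Npp_normalizer [Finite G] {p : ℕ} {X : Subgroup G} {y : G}
    (hy : y ∈ normalizer (X : Set G)) : y ∈ normalizer (Npp p X : Set G) := by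
  apply mem_normalizer_of_forward
  intro x hx
  refine forward_closure (S := {x | x ∈ X ∧ (orderOf x).Coprime p}) ?_ hx
  rintro s ⟨hs, hc⟩
  refine mem_Npp (conj_mem_of_normalizer hy hs) ?_
  rwa [orderOf_conj']

/-- If every element of `X` of order prime to `p` is trivial then `X` is a `p`-group. -/
theorem isPGroup_of_Npp_eq_bot [Finite G] {p : ℕ} (hp : p.Prime) {X : Subgroup G}
    (h : Npp p X = ⊥) : IsPGroup p X := by
  intro ⟨x, hx⟩
  have hpos : 0 < orderOf x := orderOf_pos x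
  obtain ⟨k, m, hpm, hkm⟩ := Nat.exists_eq_pow_mul_and_not_dvd hpos.ne' p hp.ne_one
  have hmd : m ∣ orderOf x := ⟨p ^ k, by rw [hkm]; ring⟩
  have hmpos : 0 < m := Nat.pos_of_ne_zero (fun h => hpos.ne' (by rw [hkm, h, mul_zero]))
  have hdiv : orderOf x / m = p ^ k := by
    rw [hkm, Nat.mul_div_cancel _ hmpos]
  have hord : orderOf (x ^ p ^ k) = m := by
    rw [← hdiv]
    exact orderOf_pow_orderOf_div hpos.ne' hmd
  have hc : (orderOf (x ^ p ^ k)).Coprime p := by
    rw [hord]
    exact ((Nat.Prime.coprime_iff_not_dvd hp).mpr hpm).symm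
  have hmem : x ^ p ^ k ∈ Npp p X := mem_Npp (pow_mem hx _) hc
  rw [h, mem_bot] at hmem
  exact ⟨k, Subtype.ext (by simpa using hmem)⟩

/-! ### Subnormal chains inside the ambient group -/

/-- `X` is reached from `M` by a chain of successive normal subgroups. -/
inductive SNI (M : Subgroup G) : Subgroup G → Prop
  | top : SNI M M
  | step {X Y : Subgroup G} : X ≤ Y → Y ≤ normalizer (X : Set G) → SNI M Y → SNI M X

theorem SNI.le {M X : Subgroup G} (h : SNI M X) : X ≤ M := by
  induction h with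
  | top => exact le_rfl
  | step h1 _ _ ih => exact h1.trans ih

theorem SNI.trans {M N X : Subgroup G} (h : SNI N X) (hN : SNI M N) : SNI M X := by
  induction h with
  | top => exact hN
  | step h1 h2 _ ih => exact SNI.step h1 h2 ih

theorem SNI.inf {M X : Subgroup G} (h : SNI M X) {Z : Subgroup G} (hZ : Z ≤ M) :
    SNI Z (X ⊓ Z) := by
  induction h with
  | top =>
    have : M ⊓ Z = Z := inf_eq_right.mpr hZ
    rw [this]
    exact SNI.top
  | @step X Y h1 h2 _ ih =>
    refine SNI.step (inf_le_inf_right Z h1) ?_ ih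
    refine le_normalizer_inf (inf_le_left.trans h2) (inf_le_right.trans le_normalizer)

theorem SNI.sub {M X Z : Subgroup G} (h : SNI M X) (hXZ : X ≤ Z) (hZ : Z ≤ M) : SNI Z X := by
  have := h.inf hZ
  rwa [inf_eq_left.mpr hXZ] at this

theorem SNI.isSubnormal {M X : Subgroup G} (h : SNI M X) : (X.subgroupOf M).IsSubnormal := by
  induction h with
  | top =>
    have : M.subgroupOf M = ⊤ := subgroupOf_self M
    rw [this]
    exact IsSubnormal.top
  | @step X Y h1 h2 _ ih =>
    refine IsSubnormal.step _ (Y.subgroupOf M) (comap_mono h1) ih ?_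
    refine ⟨fun n hn g => ?_⟩
    rw [mem_subgroupOf, mem_subgroupOf] at hn ⊢
    have hg : ((g : M) : G) ∈ Y := by
      have := g.2
      rwa [mem_subgroupOf] at this
    simpa using conj_mem_of_normalizer (h2 hg) hn

theorem sni_of_isSubnormal {M : Subgroup G} {H : Subgroup M} (h : H.IsSubnormal) :
    SNI M (H.map M.subtype) := by
  induction h with
  | top =>
    have : (⊤ : Subgroup M).map M.subtype = M := by
      rw [← MonoidHom.range_eq_map, range_subtype]
    rw [this]
    exact SNI.top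
  | step H K h1 _ hN ih =>
    refine SNI.step (map_mono h1) ?_ ih
    rintro _ ⟨k, hk, rfl⟩
    rw [mem_normalizer_iff]
    intro z
    have hn : (H.subgroupOf K).Normal := hN
    constructor
    · rintro ⟨h, hh, rfl⟩
      refine ⟨k * h * k⁻¹, ?_, by simp⟩
      have := hn.conj_mem ⟨h, h1 hh⟩ (by rwa [mem_subgroupOf]) ⟨k, hk⟩
      rwa [mem_subgroupOf] at this
    · rintro ⟨h, hh, hz⟩
      have hz' : z = M.subtype (k⁻¹ * h * k) := by
        have : M.subtype k * z * (M.subtype k)⁻¹ = M.subtype h := hz.symm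
        simp only [map_mul, map_inv]
        rw [← this]
        group
      refine ⟨k⁻¹ * h * k, ?_, hz'.symm⟩
      have := hn.conj_mem ⟨h, h1 hh⟩ (by rwa [mem_subgroupOf]) ⟨k⁻¹, inv_mem hk⟩
      rw [mem_subgroupOf] at this
      simpa using this

/-! ### The `p`-core and the layer as subgroups of the ambient group -/

/-- `O_p(M)`, as a subgroup of the ambient group. -/
def Qp (p : ℕ) (M : Subgroup G) : Subgroup G := (pCore p M).map M.subtype

/-- `E(M)`, as a subgroup of the ambient group. -/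
def Ee (M : Subgroup G) : Subgroup G := (layer M).map M.subtype

theorem map_subtype_le_normalizer {M : Subgroup G} (H : Subgroup M) [hH : H.Normal] :
    M ≤ normalizer ((H.map M.subtype : Subgroup G) : Set G) := by
  intro m hm
  apply mem_normalizer_iff.mpr
  intro z
  constructor
  · rintro ⟨h, hh, rfl⟩
    exact ⟨⟨m, hm⟩ * h * ⟨m, hm⟩⁻¹, hH.conj_mem h hh _, by simp⟩
  · rintro ⟨h, hh, hz⟩
    have hz' : z = M.subtype ((⟨m, hm⟩ : M)⁻¹ * h * ⟨m, hm⟩) := by
      have : m * z * m⁻¹ = M.subtype h := hz.symm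
      simp only [map_mul, map_inv]
      rw [← this]
      simp
      group
    refine ⟨(⟨m, hm⟩ : M)⁻¹ * h * ⟨m, hm⟩, ?_, hz'.symm⟩
    have := hH.conj_mem h hh (⟨m, hm⟩ : M)⁻¹
    simpa using this

theorem Qp_le (p : ℕ) (M : Subgroup G) : Qp p M ≤ M := map_subtype_le _

theorem Ee_le (M : Subgroup G) : Ee M ≤ M := map_subtype_le _

theorem Qp_norm [Finite G] (p : ℕ) (M : Subgroup G) : M ≤ normalizer (Qp p M : Set G) :=
  haveI : (pCore p M).Normal := pCore_normal p M
  map_subtype_le_normalizer _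

theorem Ee_norm (M : Subgroup G) : M ≤ normalizer (Ee M : Set G) :=
  map_subtype_le_normalizer _

theorem Qp_isP [Finite G] (p : ℕ) (M : Subgroup G) : IsPGroup p (Qp p M) :=
  (pCore_isPGroup (p := p) (G := M)).map _

theorem isPGroup_subgroupOf {p : ℕ} {X M : Subgroup G} (hX : IsPGroup p X) :
    IsPGroup p (X.subgroupOf M) :=
  hX.comap_subtype

theorem le_Qp_of_sni [Finite G] {p : ℕ} {M X : Subgroup G} (h : SNI M X) (hX : IsPGroup p X) :
    X ≤ Qp p M := by
  have h1 : X.subgroupOf M ≤ pCore p M :=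
    le_pCore_of_isSubnormal h.isSubnormal (isPGroup_subgroupOf hX)
  have h2 := map_mono (f := M.subtype) h1
  rwa [map_subgroupOf_eq_of_le h.le] at h2

theorem le_Ee_of_sni {M X : Subgroup G} (h : SNI M X) (hX : IsQuasisimple X) : X ≤ Ee M := by
  have h0 : IsComponent (X.subgroupOf M) :=
    ⟨h.isSubnormal, (quasisimple_subgroupOf_iff h.le).mpr hX⟩
  have h2 := map_mono (f := M.subtype) (le_layer_of_isComponent h0)
  rwa [map_subgroupOf_eq_of_le h.le] at h2

theorem Ee_le_of_comps {M Z : Subgroup G}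
    (h : ∀ K : Subgroup M, IsComponent K → K.map M.subtype ≤ Z) : Ee M ≤ Z := by
  rw [Ee, map_le_iff_le_comap]
  apply sSup_le
  intro K hK
  rw [← map_le_iff_le_comap]
  exact h K hK

theorem card_Qp [Finite G] (p : ℕ) {M₁ M₂ : Subgroup G} (e : M₁ ≃* M₂) :
    Nat.card (Qp p M₁) = Nat.card (Qp p M₂) := by
  rw [Qp, Qp, card_map_of_injective M₁.subtype_injective,
    card_map_of_injective M₂.subtype_injective, ← map_pCore_equiv e,
    card_map_of_injective e.injective]

theorem card_Ee [Finite G] {M₁ M₂ : Subgroup G} (e : M₁ ≃* M₂) :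
    Nat.card (Ee M₁) = Nat.card (Ee M₂) := by
  rw [Ee, Ee, card_map_of_injective M₁.subtype_injective,
    card_map_of_injective M₂.subtype_injective, ← layer_map_mulEquiv e,
    card_map_of_injective e.injective]

theorem Qp_eq_bot_iff {p : ℕ} {M : Subgroup G} : Qp p M = ⊥ ↔ pCore p M = ⊥ :=
  map_eq_bot_iff_of_injective _ M.subtype_injective

theorem Ee_eq_bot_iff {M : Subgroup G} : Ee M = ⊥ ↔ layer M = ⊥ :=
  map_eq_bot_iff_of_injective _ M.subtype_injective

theorem eq_bot_of_card_eq_bot {X Y : Subgroup G} (hc : Nat.card X = Nat.card Y) (h : X = ⊥) :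
    Y = ⊥ := by
  subst h
  have : Nat.card Y = 1 := by rw [← hc]; simp
  exact (Subgroup.eq_bot_iff_card Y).mpr this

/-- Commuting from mutual normalisation and trivial intersection. -/
theorem commute_of_inf_bot {X Y : Subgroup G} (h1 : X ≤ normalizer (Y : Set G))
    (h2 : Y ≤ normalizer (X : Set G)) (h3 : X ⊓ Y = ⊥) {x y : G} (hx : x ∈ X) (hy : y ∈ Y) :
    x * y = y * x := by
  have ha : x * y * x⁻¹ * y⁻¹ ∈ Y := mul_mem (conj_mem_of_normalizer (h1 hx) hy) (inv_mem hy)
  have hb : x * y * x⁻¹ * y⁻¹ ∈ X := by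
    have : x * y * x⁻¹ * y⁻¹ = x * (y * x⁻¹ * y⁻¹) := by group
    rw [this]
    exact mul_mem hx (conj_mem_of_normalizer (h2 hy) (inv_mem hx))
  have hc : x * y * x⁻¹ * y⁻¹ ∈ X ⊓ Y := ⟨hb, ha⟩
  rw [h3, mem_bot] at hc
  have : x * y * x⁻¹ = y := by
    have := mul_eq_one_iff_eq_inv.mp hc
    simpa using this
  calc x * y = x * y * x⁻¹ * x := by group
    _ = y * x := by rw [this]

theorem le_normalizer_of_forall_commute {X Y : Subgroup G}
    (h : ∀ x ∈ X, ∀ y ∈ Y, x * y = y * x) : X ≤ normalizer (Y : Set G) := fun x hx =>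
  centralizer_le_normalizer (Y : Set G) (mem_centralizer_iff.mpr fun y hy => (h x hx y hy).symm)

/-- Normaliser growth in `p`-groups. -/
theorem exists_normalizer_of_lt [Finite G] {p : ℕ} (hp : p.Prime) {P R : Subgroup G}
    (hP : IsPGroup p P) (hR : R < P) : ∃ w ∈ P, w ∉ R ∧ w ∈ normalizer (R : Set G) := by
  haveI : Fact p.Prime := ⟨hp⟩
  haveI hnil : Group.IsNilpotent P := hP.isNilpotent
  have hc := Group.normalizerCondition_of_isNilpotent (G := P)
  have hlt : R.subgroupOf P < ⊤ := by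
    refine lt_of_le_of_ne le_top ?_
    intro h
    apply not_le_of_gt hR
    intro x hx
    have : (⟨x, hx⟩ : P) ∈ R.subgroupOf P := by rw [h]; exact mem_top _
    rwa [mem_subgroupOf] at this
  obtain ⟨w, hw, hwn⟩ := SetLike.exists_of_lt (hc _ hlt)
  refine ⟨w, w.2, ?_, ?_⟩
  · rwa [mem_subgroupOf] at hwn
  · apply mem_normalizer_of_forward
    intro r hr
    have h1 : (⟨r, hR.le hr⟩ : P) ∈ R.subgroupOf P := by rwa [mem_subgroupOf]
    have h2 := conj_mem_of_normalizer hw h1
    rwa [mem_subgroupOf] at h2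

/-- The elements of `M₂` all of whose `M₂`-conjugates lie in `M₁`. -/
def coreIn (M₂ M₁ : Subgroup G) : Subgroup G where
  carrier := {t | t ∈ M₂ ∧ ∀ y ∈ M₂, y⁻¹ * t * y ∈ M₁}
  one_mem' := ⟨one_mem _, fun y _ => by simp [one_mem]⟩
  mul_mem' := by
    rintro a b ⟨ha, ha'⟩ ⟨hb, hb'⟩
    refine ⟨mul_mem ha hb, fun y hy => ?_⟩
    have : y⁻¹ * (a * b) * y = (y⁻¹ * a * y) * (y⁻¹ * b * y) := by group
    rw [this]
    exact mul_mem (ha' y hy) (hb' y hy)
  inv_mem' := by
    rintro a ⟨ha, ha'⟩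
    refine ⟨inv_mem ha, fun y hy => ?_⟩
    have : y⁻¹ * a⁻¹ * y = (y⁻¹ * a * y)⁻¹ := by group
    rw [this]
    exact inv_mem (ha' y hy)

theorem coreIn_le (M₂ M₁ : Subgroup G) : coreIn M₂ M₁ ≤ M₁ ⊓ M₂ := by
  rintro t ⟨h1, h2⟩
  refine ⟨?_, h1⟩
  simpa using h2 1 (one_mem _)

theorem coreIn_norm (M₂ M₁ : Subgroup G) : M₂ ≤ normalizer (coreIn M₂ M₁ : Set G) := by
  intro g hg
  rw [mem_normalizer_iff]
  intro t
  have hk : ∀ {g : G}, g ∈ M₂ → ∀ t ∈ coreIn M₂ M₁, g * t * g⁻¹ ∈ coreIn M₂ M₁ := by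
    rintro g hg t ⟨h1, h2⟩
    refine ⟨mul_mem (mul_mem hg h1) (inv_mem hg), fun y hy => ?_⟩
    have : y⁻¹ * (g * t * g⁻¹) * y = (g⁻¹ * y)⁻¹ * t * (g⁻¹ * y) := by group
    rw [this]
    exact h2 _ (mul_mem (inv_mem hg) hy)
  constructor
  · exact fun ht => hk hg t ht
  · intro ht
    have := hk (inv_mem hg) _ ht
    simpa [mul_assoc] using this

end Cfsg.Agent.Lib.TW.Basic
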