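import Cfsg.Agent.Lib.TW.Data
import Cfsg.Agent.Lib.Components.Central
import Cfsg.Agent.Lib.Components.CommAct

/-!
# The Thompson–Wielandt theorem: the two cases
-/

set_option autoImplicit false

namespace Cfsg.Agent.Lib.TW.Cases

open Cfsg Subgroup Cfsg.Agent.Lib.Core.Basic Cfsg.Agent.Lib.Components.Basic
open Cfsg.Agent.Lib.TW.Basic Cfsg.Agent.Lib.TW.Cfg
open Cfsg.Agent.Lib.Components.GenFitting Cfsg.Agent.Lib.Components.Layer
open scoped commutatorElement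

universe u

variable {G : Type u} [Group G]

variable {M₁ M₂ A₁ B₁ A₂ B₂ : Subgroup G}

/-- Centralisers of a subgroup normalised by `M` are normalised by `M`. -/
theorem centralizer_norm {M R : Subgroup G} (h : M ≤ normalizer (R : Set G)) :
    M ≤ normalizer ((centralizer (R : Set G) : Subgroup G) : Set G) := by
  intro m hm
  rw [mem_normalizer_iff]
  intro c
  have key : ∀ {m : G}, m ∈ normalizer (R : Set G) → ∀ c ∈ centralizer (R : Set G),
      m * c * m⁻¹ ∈ centralizer (R : Set G) := by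
    intro m hm c hc
    rw [mem_centralizer_iff] at hc ⊢
    intro r hr
    have hr' : m⁻¹ * r * m ∈ R := conj_inv_mem_of_normalizer hm hr
    have := hc _ hr'
    calc r * (m * c * m⁻¹) = m * (m⁻¹ * r * m * c) * m⁻¹ := by group
      _ = m * (c * (m⁻¹ * r * m)) * m⁻¹ := by rw [this]
      _ = m * c * m⁻¹ * r := by group
  constructor
  · exact fun hc => key (h hm) c hc
  · intro hc
    have := key (inv_mem (h hm)) _ hc
    simpa [mul_assoc] using this

/-- The layer commutes with the `p`-core, in the ambient group. -/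
theorem Ee_commute_Qp [Finite G] {p : ℕ} (hp : p.Prime) (M : Subgroup G) {e q : G}
    (he : e ∈ Ee M) (hq : q ∈ Qp p M) : e * q = q * e := by
  haveI : Fact p.Prime := ⟨hp⟩
  obtain ⟨e', he', rfl⟩ := he
  obtain ⟨q', hq', rfl⟩ := hq
  have h1 := commutator_layer_fitting (G := M)
  have h2 : layer M ≤ centralizer (fittingSubgroup M : Set M) :=
    commutator_eq_bot_iff_le_centralizer.mp h1
  have h3 := mem_centralizer_iff.mp (h2 he') q' (pCore_le_fittingSubgroup p hq')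
  have := congrArg M.subtype h3
  simpa using this.symm

theorem Ee_perfect (M : Subgroup G) : ⁅Ee M, Ee M⁆ = Ee M := by
  rw [Ee, ← map_commutator, layer_perfect]

/-- First half of the case `O_p(M₁) ≠ 1`: elements of `M₁` centralising `O_p(M₁) ∩ A₁` lie in `A₁`. -/
theorem le_A₁_of_centralizes (D : Data M₁ M₂ A₁ B₁ A₂ B₂) [Finite G] {p : ℕ}
    (hB : IsPGroup p B₂) {X : Subgroup G} (hX : X ≤ M₁)
    (hc : X ≤ centralizer ((Qp p M₁ ⊓ A₁ : Subgroup G) : Set G)) : X ≤ A₁ := by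
  set R₁ := Qp p M₁ ⊓ A₁ with hR₁
  have hB₂R : B₂ ≤ R₁ :=
    le_inf (le_Qp_of_sni D.sni_B₂ hB) (D.B₂_le.trans inf_le_left)
  have hRn : M₁ ≤ normalizer (R₁ : Set G) := le_normalizer_inf (Qp_norm p M₁) D.A₁_norm
  have h0 : (M₁ ⊓ centralizer (R₁ : Set G) : Subgroup G) ≤ A₁ := by
    refine D.A₁_max _ ?_ (le_normalizer_inf le_normalizer (centralizer_norm hRn))
    refine le_inf inf_le_left ?_
    rintro x ⟨_, hx⟩
    refine D.mem₂ D.B₂_ne D.B₂_le₂ D.B₂_norm ?_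
    refine le_normalizer_of_forall_commute (X := centralizer (R₁ : Set G)) ?_ hx
    intro c hc b hb
    exact (mem_centralizer_iff.mp hc b (hB₂R hb)).symm
  exact (le_inf hX hc).trans h0

/-- `O_t(M₂) = 1` for `t ≠ p`. -/
theorem Qp_other_eq_bot (D : Data M₁ M₂ A₁ B₁ A₂ B₂) [Finite G] {p t : ℕ} (hp : p.Prime)
    (ht : t.Prime) (htp : t ≠ p) (hA : IsPGroup p A₂) (hB : IsPGroup p B₂) :
    Qp t M₂ = ⊥ := by
  haveI : Fact p.Prime := ⟨hp⟩
  haveI : Fact t.Prime := ⟨ht⟩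
  obtain ⟨e⟩ := D.iso
  set W := Qp t M₂ with hW
  have hWp : IsPGroup t W := Qp_isP t M₂
  have hA₂Q : A₂ ≤ Qp p M₂ := le_Qp_of_sni D.sni_A₂ hA
  -- `W` centralises `Q₂`, hence `A₂`
  have hWQ : ∀ w ∈ W, ∀ q ∈ Qp p M₂, w * q = q * w := by
    intro w hw q hq
    refine commute_of_inf_bot (X := W) (Y := Qp p M₂) ((Qp_le t M₂).trans (Qp_norm p M₂))
      ((Qp_le p M₂).trans (Qp_norm t M₂)) ?_ hw hq
    exact (IsPGroup.disjoint_of_ne t p htp _ _ hWp (Qp_isP p M₂)).eq_bot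
  have hWM₁ : W ≤ M₁ := fun w hw =>
    D.mem₁ D.A₂_ne D.A₂_le₁ D.A₂_norm
      (le_normalizer_of_forall_commute (X := W) (fun w hw a ha => hWQ w hw a (hA₂Q ha)) hw)
  have hWB₁ : W ≤ B₁ := D.B₁_max W (le_inf hWM₁ (Qp_le t M₂)) (Qp_norm t M₂)
  -- `W` centralises `R₁`
  have hWR : W ≤ centralizer ((Qp p M₁ ⊓ A₁ : Subgroup G) : Set G) := by
    intro w hw
    rw [mem_centralizer_iff]
    intro r hr
    refine (commute_of_inf_bot (X := W) (Y := Qp p M₁ ⊓ A₁) ?_ ?_ ?_ hw hr).symm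
    · exact hWM₁.trans (le_normalizer_inf (Qp_norm p M₁) D.A₁_norm)
    · exact (inf_le_right.trans D.A₁_le₂).trans (Qp_norm t M₂)
    · exact (IsPGroup.disjoint_of_ne t p htp _ _ hWp (Qp_isP p M₁).to_inf_left).eq_bot
  have hWA₁ : W ≤ A₁ := le_A₁_of_centralizes D hB hWM₁ hWR
  have hsn : SNI M₁ W :=
    SNI.step (le_inf hWA₁ hWB₁) (D.C_le₂.trans (Qp_norm t M₂)) D.sni_C₁
  have hle : W ≤ Qp t M₁ := le_Qp_of_sni hsn hWp
  have heq : W = Qp t M₁ := Subgroup.eq_of_le_of_card_ge hle (card_Qp t e).le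
  refine D.eq_bot hWM₁ ?_ (Qp_norm t M₂)
  rw [heq]
  exact Qp_norm t M₁

/-- `E(M₂) = 1`. -/
theorem Ee_eq_bot_of_p (D : Data M₁ M₂ A₁ B₁ A₂ B₂) [Finite G] {p : ℕ} (hp : p.Prime)
    (hA : IsPGroup p A₂) (hB : IsPGroup p B₂) : Ee M₂ = ⊥ := by
  haveI : Fact p.Prime := ⟨hp⟩
  obtain ⟨e⟩ := D.iso
  have hA₂Q : A₂ ≤ Qp p M₂ := le_Qp_of_sni D.sni_A₂ hA
  set E₂ := Ee M₂ with hE₂
  have hE₂M₁ : E₂ ≤ M₁ := fun x hx =>
    D.mem₁ D.A₂_ne D.A₂_le₁ D.A₂_norm
      (le_normalizer_of_forall_commute (X := E₂)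
        (fun w hw a ha => Ee_commute_Qp hp M₂ hw (hA₂Q ha)) hx)
  have hE₂B₁ : E₂ ≤ B₁ := D.B₁_max E₂ (le_inf hE₂M₁ (Ee_le M₂)) (Ee_norm M₂)
  set R₁ := Qp p M₁ ⊓ A₁ with hR₁
  have hRn : M₁ ≤ normalizer (R₁ : Set G) := le_normalizer_inf (Qp_norm p M₁) D.A₁_norm
  have hRM₂ : R₁ ≤ M₂ := inf_le_right.trans D.A₁_le₂
  -- `[E₂, R₁] = 1`
  have hcomm : ⁅E₂, R₁⁆ = ⊥ := by
    apply commutator_eq_bot_of_perfect (Ee_perfect M₂)
    have h1 : ⁅E₂, R₁⁆ ≤ E₂ ⊓ R₁ := by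
      rw [commutator_le]
      intro a ha b hb
      refine Subgroup.mem_inf.mpr ⟨?_, ?_⟩
      · have : ⁅a, b⁆ = a * (b * a⁻¹ * b⁻¹) := by rw [commutatorElement_def]; group
        rw [this]
        exact mul_mem ha (conj_mem_of_normalizer (Ee_norm M₂ (hRM₂ hb)) (inv_mem ha))
      · have : ⁅a, b⁆ = a * b * a⁻¹ * b⁻¹ := rfl
        rw [this]
        exact mul_mem (conj_mem_of_normalizer (hRn (hE₂M₁ ha)) hb) (inv_mem hb)
    have h2 : E₂ ⊓ R₁ ≤ Qp p M₂ := by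
      apply le_Qp_of_sni
      · exact SNI.step inf_le_left
          (le_normalizer_inf le_normalizer (hE₂M₁.trans hRn))
          (SNI.step (Ee_le M₂) (Ee_norm M₂) SNI.top)
      · exact (Qp_isP p M₁).to_inf_left.to_inf_right |> fun h => h
    rw [eq_bot_iff, commutator_le]
    intro a ha b hb
    rw [mem_bot, commutatorElement_eq_one_iff_mul_comm]
    exact (Ee_commute_Qp hp M₂ hb (h2 (h1 ha))).symm
  have hE₂A₁ : E₂ ≤ A₁ :=
    le_A₁_of_centralizes D hB hE₂M₁ (commutator_eq_bot_iff_le_centralizer.mp hcomm)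
  have hsn : SNI M₁ E₂ :=
    SNI.step (le_inf hE₂A₁ hE₂B₁) (D.C_le₂.trans (Ee_norm M₂)) D.sni_C₁
  have hle : E₂ ≤ Ee M₁ := by
    apply Ee_le_of_comps
    intro K hK
    have h1 : SNI M₂ (K.map M₂.subtype) := sni_of_isSubnormal hK.1
    have h2 : K.map M₂.subtype ≤ E₂ := map_mono (le_layer_of_isComponent hK)
    have h3 : SNI E₂ (K.map M₂.subtype) := h1.sub h2 (Ee_le M₂)
    exact le_Ee_of_sni (h3.trans hsn) ((quasisimple_map_subtype_iff K).mpr hK.2)
  have heq : E₂ = Ee M₁ := Subgroup.eq_of_le_of_card_ge hle (card_Ee e).le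
  refine D.eq_bot hE₂M₁ ?_ (Ee_norm M₂)
  rw [heq]
  exact Ee_norm M₁

/-- `F*(X) = O_p(X)` from the vanishing of the layer and the other cores. -/
theorem gf_eq_pCore {X : Type u} [Group X] [Finite X] {p : ℕ} (hp : p.Prime)
    (h1 : layer X = ⊥) (h2 : ∀ t : ℕ, t.Prime → t ≠ p → pCore t X = ⊥) :
    generalizedFittingSubgroup X = pCore p X := by
  rw [generalizedFittingSubgroup, h1, bot_sup_eq, fittingSubgroup_eq_iSup_pCore]
  apply le_antisymm
  · refine iSup_le fun t => ?_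
    by_cases ht : (t : ℕ) = p
    · rw [ht]
    · rw [h2 t t.2 ht]
      exact bot_le
  · exact le_iSup (fun t : Nat.Primes => pCore (t : ℕ) X) ⟨p, hp⟩

/-- Passing `F* = O_p` to subnormal subgroups. -/
theorem gf_of_sni [Finite G] {p : ℕ} {M A : Subgroup G} (hA : SNI M A)
    (h : generalizedFittingSubgroup M = pCore p M) :
    generalizedFittingSubgroup A = pCore p A := by
  set H := A.subgroupOf M with hH
  have hsn : H.IsSubnormal := hA.isSubnormal
  have h1 := map_generalizedFitting_of_isSubnormal hsn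
  have h2 := map_pCore_of_isSubnormal (p := p) hsn
  have h3 : generalizedFittingSubgroup H = pCore p H := by
    apply map_injective H.subtype_injective
    rw [h1, h2, h]
  have e := subgroupOfEquivOfLe hA.le
  rw [← Cfsg.Agent.Lib.Components.CommAct.map_generalizedFitting_equiv (subgroupOfEquivOfLe hA.le),
    ← map_pCore_equiv (subgroupOfEquivOfLe hA.le), h3]

/-- The components of `M₁` lie in `M₂`. -/
theorem comp_le₂ (D : Data M₁ M₂ A₁ B₁ A₂ B₂) [Finite G] {K : Subgroup M₁} (hK : IsComponent K) :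
    K.map M₁.subtype ≤ M₂ := by
  rintro _ ⟨k, hk, rfl⟩
  refine D.mem₂ D.B₂_ne D.B₂_le₂ D.B₂_norm ?_
  rcases component_le_or_commutator_eq_bot hK D.sni_B₂.isSubnormal with h | h
  · exact le_normalizer (by simpa [mem_subgroupOf] using h hk)
  · have h1 := commutator_eq_bot_iff_le_centralizer.mp h hk
    refine centralizer_le_normalizer (B₂ : Set G) (mem_centralizer_iff.mpr fun b hb => ?_)
    have hbM : b ∈ M₁ := D.sni_B₂.le hb
    have h2 := mem_centralizer_iff.mp h1 ⟨b, hbM⟩ (by simpa [mem_subgroupOf] using hb)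
    simpa using congrArg M₁.subtype h2

theorem Ee_le₂ (D : Data M₁ M₂ A₁ B₁ A₂ B₂) [Finite G] : Ee M₁ ≤ M₂ :=
  Ee_le_of_comps fun _ hK => comp_le₂ D hK

/-- In the case of no `p`-core: every component of `M₁` lies in `E(M₂)`. -/
theorem comp_le_Ee₂ (D : Data M₁ M₂ A₁ B₁ A₂ B₂) [Finite G] (hfit₁ : fittingSubgroup M₁ = ⊥)
    (hfit₂ : fittingSubgroup M₂ = ⊥) {K : Subgroup M₁} (hK : IsComponent K) :
    K.map M₁.subtype ≤ Ee M₂ := by
  classical
  have hKM₂ := comp_le₂ D hK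
  have hE₂M₁ : Ee M₂ ≤ M₁ := Ee_le₂ D.swap
  have hkM₂ : ∀ k ∈ K, (k : G) ∈ M₂ := fun k hk => hKM₂ ⟨k, hk, rfl⟩
  -- `K ∩ E₂` is normal in `K`
  set I₁ : Subgroup K := ((Ee M₂).subgroupOf M₁).subgroupOf K with hI₁
  have memI : ∀ k : K, k ∈ I₁ ↔ ((k : M₁) : G) ∈ Ee M₂ := by
    intro k
    rw [hI₁, mem_subgroupOf, mem_subgroupOf]
  haveI hI₁n : I₁.Normal := by
    refine ⟨fun n hn g => ?_⟩
    rw [memI] at hn ⊢
    simpa using conj_mem_of_normalizer (Ee_norm M₂ (hkM₂ _ g.2)) hn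
  rcases normal_eq_top_or_le_center hK.2 I₁ with h | h
  · rintro _ ⟨k, hk, rfl⟩
    have : (⟨k, hk⟩ : K) ∈ I₁ := by rw [h]; exact mem_top _
    exact (memI _).mp this
  -- the trivial-intersection case
  rw [Cfsg.Agent.Lib.Components.Central.center_component_eq_bot_of_fitting hfit₁ hK] at h
  have hI : ∀ k ∈ K, (k : G) ∈ Ee M₂ → k = 1 := by
    intro k hk hkE
    have h1 : (⟨k, hk⟩ : K) ∈ I₁ := (memI _).mpr hkE
    have h2 := h h1
    rw [mem_bot] at h2
    exact congrArg Subtype.val h2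
  have hKne : K ≠ ⊥ := ne_bot_of_quasisimple hK.2
  -- `K` is nonabelian
  have hnab : ¬ ∀ k ∈ K, ∀ k₂ ∈ K, k * k₂ = k₂ * k := by
    intro hab
    apply hKne
    rw [← commutator_self_of_quasisimple hK.2, eq_bot_iff, commutator_le]
    intro a ha b hb
    rw [mem_bot, commutatorElement_eq_one_iff_mul_comm]
    exact hab a ha b hb
  -- `E₂` normalises `K`
  have hnorm : ∀ x ∈ Ee M₂, x ∈ normalizer ((K.map M₁.subtype : Subgroup G) : Set G) := by
    intro x hx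
    have hxM := hE₂M₁ hx
    rcases component_eq_or_commutator_eq_bot hK (isComponent_conj (⟨x, hxM⟩ : M₁) hK) with h1 | h1
    · apply mem_normalizer_of_forward
      rintro _ ⟨k, hk, rfl⟩
      have h2 : (⟨x, hxM⟩ : M₁) * k * (⟨x, hxM⟩ : M₁)⁻¹ ∈ K := by
        rw [h1]
        exact ⟨k, hk, rfl⟩
      exact ⟨_, h2, by simp⟩
    · exfalso
      apply hnab
      intro k hk k₂ hk₂
      have h2 := commutator_eq_bot_iff_le_centralizer.mp h1 hk₂
      have h3 := mem_centralizer_iff.mp h2 ((⟨x, hxM⟩ : M₁) * k * (⟨x, hxM⟩ : M₁)⁻¹) ⟨k, hk, rfl⟩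
      have h4 : x * k * x⁻¹ * k₂ = k₂ * (x * k * x⁻¹) := by
        simpa using congrArg M₁.subtype h3
      -- computation modulo `E₂`
      set e : G := x * ((k : G) * x⁻¹ * (k : G)⁻¹) with he
      have heE : e ∈ Ee M₂ := mul_mem hx (conj_mem_of_normalizer (Ee_norm M₂ (hkM₂ k hk)) (inv_mem hx))
      set u : M₁ := k * k₂ * k⁻¹ with hu
      have huK : u ∈ K := mul_mem (mul_mem hk hk₂) (inv_mem hk)
      have h5 : e * (u : G) * e⁻¹ = k₂ := by
        have h6 : x * k * x⁻¹ = e * k := by rw [he]; group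
        rw [h6] at h4
        have : e * (u : G) * e⁻¹ = (e * k) * k₂ * (e * k)⁻¹ := by
          rw [hu]
          simp
          group
        rw [this, h4]
        group
      have hv : k₂ * u⁻¹ ∈ K := mul_mem hk₂ (inv_mem huK)
      have hvE : ((k₂ * u⁻¹ : M₁) : G) ∈ Ee M₂ := by
        have : ((k₂ * u⁻¹ : M₁) : G) = e * ((u : G) * e⁻¹ * (u : G)⁻¹) := by
          simp only [MulMemClass.coe_mul, InvMemClass.coe_inv]
          rw [← h5]
          group
        rw [this]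
        exact mul_mem heE (conj_mem_of_normalizer (Ee_norm M₂ (hkM₂ u huK)) (inv_mem heE))
      have h7 := hI _ hv hvE
      have h8 : k₂ = u := by
        exact mul_inv_eq_one.mp h7
      calc k * k₂ = u * k := by rw [hu]; group
        _ = k₂ * k := by rw [← h8]
  -- so `K` centralises `E₂`
  have hKinf : Ee M₂ ⊓ K.map M₁.subtype = ⊥ := by
    rw [eq_bot_iff]
    rintro z ⟨hz, k, hk, rfl⟩
    have := hI k hk hz
    simp [this]
  intro z hz
  have hzM₂ : z ∈ M₂ := hKM₂ hz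
  have hc : (⟨z, hzM₂⟩ : M₂) ∈ centralizer (generalizedFittingSubgroup M₂ : Set M₂) := by
    rw [mem_centralizer_iff]
    intro y hy
    rw [generalizedFittingSubgroup, hfit₂, sup_bot_eq] at hy
    apply Subtype.ext
    have hyE : (y : G) ∈ Ee M₂ := ⟨y, hy, rfl⟩
    exact commute_of_inf_bot hnorm (fun _ hk => Ee_norm M₂ (hKM₂ hk)) hKinf hyE hz
  have h9 := centralizer_generalizedFitting_le hc
  rw [generalizedFittingSubgroup, hfit₂, sup_bot_eq] at h9
  exact ⟨_, h9, rfl⟩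

/-- The case where `M₁` has no nontrivial normal subgroup of prime power order is impossible. -/
theorem caseB (D : Data M₁ M₂ A₁ B₁ A₂ B₂) [Finite G] (h : ∀ p : ℕ, p.Prime → Qp p M₁ = ⊥) :
    False := by
  obtain ⟨e⟩ := D.iso
  have hfit₁ : fittingSubgroup M₁ = ⊥ := by
    rw [fittingSubgroup_eq_iSup_pCore, iSup_eq_bot]
    exact fun t => Qp_eq_bot_iff.mp (h t t.2)
  have hfit₂ : fittingSubgroup M₂ = ⊥ := by
    rw [fittingSubgroup_eq_iSup_pCore, iSup_eq_bot]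
    exact fun t => Qp_eq_bot_iff.mp (eq_bot_of_card_eq_bot (card_Qp t e) (h t t.2))
  have hE₁ne : Ee M₁ ≠ ⊥ := by
    intro hE
    have h1 : generalizedFittingSubgroup M₁ = ⊥ := by
      rw [generalizedFittingSubgroup, Ee_eq_bot_iff.mp hE, hfit₁, sup_bot_eq]
    have h2 := centralizer_generalizedFitting_le (G := M₁)
    rw [h1] at h2
    apply D.A₂_ne
    rw [eq_bot_iff]
    intro a ha
    have h3 : (⟨a, D.A₂_le₁ ha⟩ : M₁) ∈ centralizer (((⊥ : Subgroup M₁) : Subgroup M₁) : Set M₁) := by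
      rw [mem_centralizer_iff]
      intro y hy
      have : y = 1 := by simpa using hy
      simp [this]
    have h4 := h2 h3
    rw [mem_bot] at h4 ⊢
    exact congrArg Subtype.val h4
  have hle : Ee M₁ ≤ Ee M₂ := Ee_le_of_comps fun _ hK => comp_le_Ee₂ D hfit₁ hfit₂ hK
  have heq : Ee M₁ = Ee M₂ := Subgroup.eq_of_le_of_card_ge hle (card_Ee e).ge
  apply hE₁ne
  refine D.eq_bot (Ee_le M₁) (Ee_norm M₁) ?_
  rw [heq]
  exact Ee_norm M₂

/-- The conclusion of the Thompson–Wielandt theorem for a configuration. -/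
theorem main (D : Data M₁ M₂ A₁ B₁ A₂ B₂) [Finite G] :
    ∃ p : ℕ, p.Prime ∧ IsPGroup p ↥(A₂ ⊔ B₂) ∧
      generalizedFittingSubgroup ↥M₁ = pCore p ↥M₁ ∧
      generalizedFittingSubgroup ↥A₁ = pCore p ↥A₁ ∧
      generalizedFittingSubgroup ↥M₂ = pCore p ↥M₂ ∧
      generalizedFittingSubgroup ↥B₁ = pCore p ↥B₁ := by
  by_cases h : ∀ p : ℕ, p.Prime → Qp p M₁ = ⊥
  · exact (caseB D h).elim
  push Not at h
  obtain ⟨p, hp, hQ⟩ := h
  obtain ⟨e⟩ := D.iso
  have hQ₂ : Qp p M₂ ≠ ⊥ := fun h => hQ (eq_bot_of_card_eq_bot (card_Qp p e).symm h)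
  have hA := D.A₂_isP hp hQ
  have hB := D.swap.A₂_isP hp hQ₂
  have hF₂ : generalizedFittingSubgroup M₂ = pCore p M₂ :=
    gf_eq_pCore hp (Ee_eq_bot_iff.mp (Ee_eq_bot_of_p D hp hA hB))
      (fun t ht htp => Qp_eq_bot_iff.mp (Qp_other_eq_bot D hp ht htp hA hB))
  have hF₁ : generalizedFittingSubgroup M₁ = pCore p M₁ :=
    gf_eq_pCore hp (Ee_eq_bot_iff.mp (Ee_eq_bot_of_p D.swap hp hB hA))
      (fun t ht htp => Qp_eq_bot_iff.mp (Qp_other_eq_bot D.swap hp ht htp hB hA))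
  refine ⟨p, hp, ?_, hF₁, gf_of_sni D.sni_A₁ hF₁, hF₂, gf_of_sni D.swap.sni_A₁ hF₂⟩
  refine (Qp_isP p M₁).to_le (sup_le ?_ (le_Qp_of_sni D.sni_B₂ hB))
  exact le_Qp_of_sni (SNI.step D.A₂_le₁ D.A₂_norm SNI.top) hA

end Cfsg.Agent.Lib.TW.Cases
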