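import Cfsg.Agent.Lib.TW.Basic

/-!
# The Thompson–Wielandt theorem: the configuration, and the second cores are `p`-groups
-/

set_option autoImplicit false

namespace Cfsg.Agent.Lib.TW.Cfg

open Cfsg Subgroup Cfsg.Agent.Lib.Core.Basic Cfsg.Agent.Lib.Components.Basic
open Cfsg.Agent.Lib.TW.Basic
open scoped commutatorElement

universe u

variable {G : Type u} [Group G]

/-- The symmetric configuration of the theorem. -/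
structure Data (M₁ M₂ A₁ B₁ A₂ B₂ : Subgroup G) : Prop where
  max₁ : IsCoatom M₁
  max₂ : IsCoatom M₂
  core₁ : ∀ X : Subgroup G, X ≤ M₁ → X.Normal → X = ⊥
  core₂ : ∀ X : Subgroup G, X ≤ M₂ → X.Normal → X = ⊥
  ne : M₁ ≠ M₂
  iso : Nonempty (M₁ ≃* M₂)
  A₁_le : A₁ ≤ M₁ ⊓ M₂
  A₁_norm : M₁ ≤ normalizer (A₁ : Set G)
  A₁_max : ∀ X : Subgroup G, X ≤ M₁ ⊓ M₂ → M₁ ≤ normalizer (X : Set G) → X ≤ A₁
  B₁_le : B₁ ≤ M₁ ⊓ M₂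
  B₁_norm : M₂ ≤ normalizer (B₁ : Set G)
  B₁_max : ∀ X : Subgroup G, X ≤ M₁ ⊓ M₂ → M₂ ≤ normalizer (X : Set G) → X ≤ B₁
  A₂_le : A₂ ≤ A₁ ⊓ B₁
  A₂_norm : M₁ ≤ normalizer (A₂ : Set G)
  A₂_ne : A₂ ≠ ⊥
  B₂_le : B₂ ≤ A₁ ⊓ B₁
  B₂_norm : M₂ ≤ normalizer (B₂ : Set G)
  B₂_ne : B₂ ≠ ⊥

variable {M₁ M₂ A₁ B₁ A₂ B₂ : Subgroup G}

theorem Data.swap (D : Data M₁ M₂ A₁ B₁ A₂ B₂) : Data M₂ M₁ B₁ A₁ B₂ A₂ where
  max₁ := D.max₂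
  max₂ := D.max₁
  core₁ := D.core₂
  core₂ := D.core₁
  ne := D.ne.symm
  iso := D.iso.map MulEquiv.symm
  A₁_le := by rw [inf_comm]; exact D.B₁_le
  A₁_norm := D.B₁_norm
  A₁_max := fun X hX => D.B₁_max X (by rwa [inf_comm])
  B₁_le := by rw [inf_comm]; exact D.A₁_le
  B₁_norm := D.A₁_norm
  B₁_max := fun X hX => D.A₁_max X (by rwa [inf_comm])
  A₂_le := by rw [inf_comm]; exact D.B₂_le
  A₂_norm := D.B₂_norm
  A₂_ne := D.B₂_ne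
  B₂_le := by rw [inf_comm]; exact D.A₂_le
  B₂_norm := D.A₂_norm
  B₂_ne := D.A₂_ne

theorem Data.A₁_le₁ (D : Data M₁ M₂ A₁ B₁ A₂ B₂) : A₁ ≤ M₁ := D.A₁_le.trans inf_le_left
theorem Data.A₁_le₂ (D : Data M₁ M₂ A₁ B₁ A₂ B₂) : A₁ ≤ M₂ := D.A₁_le.trans inf_le_right
theorem Data.B₁_le₁ (D : Data M₁ M₂ A₁ B₁ A₂ B₂) : B₁ ≤ M₁ := D.B₁_le.trans inf_le_left
theorem Data.B₁_le₂ (D : Data M₁ M₂ A₁ B₁ A₂ B₂) : B₁ ≤ M₂ := D.B₁_le.trans inf_le_right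
theorem Data.A₂_le₁ (D : Data M₁ M₂ A₁ B₁ A₂ B₂) : A₂ ≤ M₁ :=
  (D.A₂_le.trans inf_le_left).trans D.A₁_le₁
theorem Data.B₂_le₂ (D : Data M₁ M₂ A₁ B₁ A₂ B₂) : B₂ ≤ M₂ :=
  (D.B₂_le.trans inf_le_right).trans D.B₁_le₂

theorem Data.mem₁ (D : Data M₁ M₂ A₁ B₁ A₂ B₂) {X : Subgroup G} (hne : X ≠ ⊥) (hle : X ≤ M₁)
    (hn : M₁ ≤ normalizer (X : Set G)) {y : G} (hy : y ∈ normalizer (X : Set G)) : y ∈ M₁ :=
  mem_of_normalizes D.max₁ D.core₁ hne hle hn hy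

theorem Data.mem₂ (D : Data M₁ M₂ A₁ B₁ A₂ B₂) {X : Subgroup G} (hne : X ≠ ⊥) (hle : X ≤ M₂)
    (hn : M₂ ≤ normalizer (X : Set G)) {y : G} (hy : y ∈ normalizer (X : Set G)) : y ∈ M₂ :=
  mem_of_normalizes D.max₂ D.core₂ hne hle hn hy

/-- A subgroup of `M₁` normalised by both `M₁` and `M₂` is trivial. -/
theorem Data.eq_bot (D : Data M₁ M₂ A₁ B₁ A₂ B₂) {X : Subgroup G} (hle : X ≤ M₁)
    (h₁ : M₁ ≤ normalizer (X : Set G)) (h₂ : M₂ ≤ normalizer (X : Set G)) : X = ⊥ :=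
  D.core₁ X hle (normal_of_both D.max₁ D.ne h₁ h₂ D.max₂)

theorem Data.sni_A₁ (D : Data M₁ M₂ A₁ B₁ A₂ B₂) : SNI M₁ A₁ :=
  SNI.step D.A₁_le₁ D.A₁_norm SNI.top

theorem Data.sni_C₁ (D : Data M₁ M₂ A₁ B₁ A₂ B₂) : SNI M₁ (A₁ ⊓ B₁) :=
  SNI.step inf_le_left
    (le_normalizer_inf le_normalizer (D.A₁_le₂.trans D.B₁_norm)) D.sni_A₁

theorem Data.sni_C₂ (D : Data M₁ M₂ A₁ B₁ A₂ B₂) : SNI M₂ (A₁ ⊓ B₁) := by
  have := D.swap.sni_C₁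
  rwa [inf_comm] at this

theorem Data.C_le₂ (D : Data M₁ M₂ A₁ B₁ A₂ B₂) : A₁ ⊓ B₁ ≤ M₂ := inf_le_right.trans D.B₁_le₂
theorem Data.C_le₁ (D : Data M₁ M₂ A₁ B₁ A₂ B₂) : A₁ ⊓ B₁ ≤ M₁ := inf_le_left.trans D.A₁_le₁

theorem Data.sni_A₂ (D : Data M₁ M₂ A₁ B₁ A₂ B₂) : SNI M₂ A₂ :=
  SNI.step D.A₂_le (D.C_le₁.trans D.A₂_norm) D.sni_C₂

theorem Data.sni_B₂ (D : Data M₁ M₂ A₁ B₁ A₂ B₂) : SNI M₁ B₂ :=
  SNI.step D.B₂_le (D.C_le₂.trans D.B₂_norm) D.sni_C₁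

/-- `Q` moves the elements of order prime to `p` of `X` inside `X`. -/
def Good (p : ℕ) (Q X : Subgroup G) : Prop :=
  ∀ x ∈ X, (orderOf x).Coprime p → ∀ z ∈ Q, z * x * z⁻¹ ∈ X

theorem Good.step [Finite G] {p : ℕ} (hp : p.Prime) {Q X Y : Subgroup G} (hQ : IsPGroup p Q)
    (hg : Good p Q Y) (hXY : X ≤ Y) (hn : Y ≤ normalizer (X : Set G))
    (hQn : Y ≤ normalizer (Q : Set G)) : Good p Q X := by
  intro x hx hc z hz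
  have hw : z * x * z⁻¹ ∈ Y := hg x (hXY hx) hc z hz
  have hq₁ : z * x * z⁻¹ * x⁻¹ ∈ Q := by
    have : z * x * z⁻¹ * x⁻¹ = z * (x * z⁻¹ * x⁻¹) := by group
    rw [this]
    exact mul_mem hz (conj_mem_of_normalizer (hQn (hXY hx)) (inv_mem hz))
  have hq₂ : z * x * z⁻¹ * x⁻¹ ∈ Y := mul_mem hw (inv_mem (hXY hx))
  refine pprime_mem hp (Q := Q ⊓ Y) hQ.to_inf_left (inf_le_right.trans hn) hx ⟨hq₁, hq₂⟩ ?_ ?_
  · group
  · rwa [orderOf_conj']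

theorem Data.good (D : Data M₁ M₂ A₁ B₁ A₂ B₂) [Finite G] {p : ℕ} (hp : p.Prime) :
    Good p (Qp p M₂) A₂ := by
  have hQ := Qp_isP p M₂
  have h0 : Good p (Qp p M₂) M₂ := fun x hx _ z hz =>
    mul_mem (mul_mem (Qp_le p M₂ hz) hx) (inv_mem (Qp_le p M₂ hz))
  have h1 : Good p (Qp p M₂) B₁ := h0.step hp hQ D.B₁_le₂ D.B₁_norm (Qp_norm p M₂)
  have h2 : Good p (Qp p M₂) (A₁ ⊓ B₁) :=
    h1.step hp hQ inf_le_right
      (le_normalizer_inf (D.B₁_le₁.trans D.A₁_norm) le_normalizer)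
      (D.B₁_le₂.trans (Qp_norm p M₂))
  exact h2.step hp hQ D.A₂_le (D.C_le₁.trans D.A₂_norm) (D.C_le₂.trans (Qp_norm p M₂))

/-- **Key lemma**: if `O_p(M₁) ≠ 1`, then `A₂` is a `p`-group. -/
theorem Data.Npp_eq_bot (D : Data M₁ M₂ A₁ B₁ A₂ B₂) [Finite G] {p : ℕ} (hp : p.Prime)
    (hQ : Qp p M₁ ≠ ⊥) : Npp p A₂ = ⊥ := by
  by_contra hN
  obtain ⟨e⟩ := D.iso
  have hcard : Nat.card (Qp p M₁) = Nat.card (Qp p M₂) := card_Qp p e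
  have hQ₂ne : Qp p M₂ ≠ ⊥ := fun h => hQ (eq_bot_of_card_eq_bot hcard.symm h)
  have hNnorm : M₁ ≤ normalizer (Npp p A₂ : Set G) := fun m hm => Npp_normalizer (D.A₂_norm hm)
  have hNle : Npp p A₂ ≤ M₁ := (Npp_le p A₂).trans D.A₂_le₁
  -- `Q₂` normalises `N₁`
  have hgood := D.good hp
  have hQ₂N : Qp p M₂ ≤ normalizer (Npp p A₂ : Set G) := by
    intro z hz
    apply mem_normalizer_of_forward
    intro x hx
    refine forward_closure (S := {x | x ∈ A₂ ∧ (orderOf x).Coprime p}) ?_ hx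
    rintro s ⟨hs, hc⟩
    exact mem_Npp (hgood s hs hc z hz) (by rwa [orderOf_conj'])
  have hQ₂₁ : Qp p M₂ ≤ M₁ := fun u hu => D.mem₁ hN hNle hNnorm (hQ₂N hu)
  -- `B₁ ⊓ Q₁ ≤ Q₂`
  have hB₁Q₁ : B₁ ⊓ Qp p M₁ ≤ Qp p M₂ := by
    apply le_Qp_of_sni
    · refine SNI.step inf_le_left ?_ (SNI.step D.B₁_le₂ D.B₁_norm SNI.top)
      exact le_normalizer_inf le_normalizer (D.B₁_le₁.trans (Qp_norm p M₁))
    · exact (Qp_isP p M₁).to_inf_right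
  -- `Q₁ ⊓ M₂ ≤ Q₂`
  have key : Qp p M₁ ⊓ M₂ ≤ Qp p M₂ := by
    rintro z ⟨hz₁, hz₂⟩
    have hzcore : z ∈ coreIn M₂ M₁ := by
      refine ⟨hz₂, fun y hy => ?_⟩
      refine D.mem₁ hN hNle hNnorm (mem_normalizer_of_forward ?_)
      intro n hn
      refine forward_closure (S := {x | x ∈ A₂ ∧ (orderOf x).Coprime p}) ?_ hn
      rintro x ⟨hx, hc⟩
      -- the conjugate of `N₁` by `y`
      set X : Subgroup G := (Npp p A₂).comap (MulAut.conj y⁻¹).toMonoidHom with hX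
      have memX : ∀ t, t ∈ X ↔ y⁻¹ * t * y ∈ Npp p A₂ := by
        intro t
        rw [hX, mem_comap]
        simp
      set b := y * x * y⁻¹ with hb
      have hbB : b ∈ B₁ :=
        conj_mem_of_normalizer (D.B₁_norm hy) ((D.A₂_le hx).2)
      have hbX : b ∈ X := by
        rw [memX]
        have : y⁻¹ * b * y = x := by rw [hb]; group
        rw [this]
        exact mem_Npp hx hc
      have hqB : z * b * z⁻¹ * b⁻¹ ∈ B₁ :=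
        mul_mem (conj_mem_of_normalizer (D.B₁_norm hz₂) hbB) (inv_mem hbB)
      have hqQ : z * b * z⁻¹ * b⁻¹ ∈ Qp p M₁ := by
        have : z * b * z⁻¹ * b⁻¹ = z * (b * z⁻¹ * b⁻¹) := by group
        rw [this]
        exact mul_mem hz₁ (conj_mem_of_normalizer (Qp_norm p M₁ (D.B₁_le₁ hbB)) (inv_mem hz₁))
      have hq : z * b * z⁻¹ * b⁻¹ ∈ Qp p M₂ := hB₁Q₁ ⟨hqB, hqQ⟩
      have hQ₂X : Qp p M₂ ≤ normalizer (X : Set G) := by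
        intro u hu
        apply mem_normalizer_of_forward
        intro v hv
        rw [memX] at hv ⊢
        have : y⁻¹ * (u * v * u⁻¹) * y
            = (y⁻¹ * u * y) * (y⁻¹ * v * y) * (y⁻¹ * u * y)⁻¹ := by group
        rw [this]
        exact conj_mem_of_normalizer (hQ₂N (conj_inv_mem_of_normalizer (Qp_norm p M₂ hy) hu)) hv
      have hw : z * b * z⁻¹ ∈ X := by
        refine pprime_mem hp (Qp_isP p M₂) hQ₂X hbX hq ?_ ?_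
        · group
        · rw [orderOf_conj', hb, orderOf_conj']
          exact hc
      rw [memX] at hw
      have : y⁻¹ * z * y * x * (y⁻¹ * z * y)⁻¹ = y⁻¹ * (z * b * z⁻¹) * y := by
        rw [hb]; group
      rw [this]
      exact hw
    exact hB₁Q₁ ⟨D.B₁_max _ (coreIn_le M₂ M₁) (coreIn_norm M₂ M₁) hzcore, hz₁⟩
  -- `Q₁ ≰ Q₂`
  have hnle : ¬ Qp p M₁ ≤ Qp p M₂ := by
    intro hle
    have heq : Qp p M₁ = Qp p M₂ := Subgroup.eq_of_le_of_card_ge hle hcard.symm.le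
    apply hQ
    refine D.eq_bot (Qp_le p M₁) (Qp_norm p M₁) ?_
    rw [heq]
    exact Qp_norm p M₂
  -- the normaliser condition
  have hP : IsPGroup p (Qp p M₂ ⊔ Qp p M₁ : Subgroup G) :=
    IsPGroup.to_sup_of_normal_right' (Qp_isP p M₂) (Qp_isP p M₁) (hQ₂₁.trans (Qp_norm p M₁))
  have hlt : Qp p M₂ < Qp p M₂ ⊔ Qp p M₁ := by
    refine lt_of_le_of_ne le_sup_left ?_
    intro h
    exact hnle (by rw [h]; exact le_sup_right)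
  obtain ⟨w, hwP, hwQ, hwN⟩ := exists_normalizer_of_lt hp hP hlt
  obtain ⟨b, hb, a, ha, rfl⟩ :=
    mem_sup_of_le_normalizer (hQ₂₁.trans (Qp_norm p M₁)) hwP
  have haN : a ∈ normalizer (Qp p M₂ : Set G) := by
    have : a = b⁻¹ * (b * a) := by group
    rw [this]
    exact mul_mem (inv_mem (le_normalizer hb)) hwN
  have haM₂ : a ∈ M₂ := D.mem₂ hQ₂ne (Qp_le p M₂) (Qp_norm p M₂) haN
  exact hwQ (mul_mem hb (key ⟨ha, haM₂⟩))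

theorem Data.A₂_isP (D : Data M₁ M₂ A₁ B₁ A₂ B₂) [Finite G] {p : ℕ} (hp : p.Prime)
    (hQ : Qp p M₁ ≠ ⊥) : IsPGroup p A₂ :=
  isPGroup_of_Npp_eq_bot hp (D.Npp_eq_bot hp hQ)

end Cfsg.Agent.Lib.TW.Cfg
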